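import Mathlib

/-!
# S4173, row M, M4', box B7 in abstract form (helper745)

`b_seven` : `G` finite, `g` with `7 ∣ orderOf g`, odd centralizer, commuting with no element of type `FB 5`, `FB 7`:
`|C(g)| ≤ 918922725`.
-/

set_option autoImplicit false

namespace Cfsg.Agent.H745.TM

open Subgroup

universe u

theorem dvd_step {n p k j m : ℕ} (hp : p.Prime) (hn : n ∣ p ^ k * m) (h : ¬ p ^ (j + 1) ∣ n) : n ∣ p ^ j * m := by
  have hn0 : n ≠ 0 := by
    rintro rfl
    exact h (dvd_zero _)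
  obtain ⟨a, n', hn', e⟩ := Nat.exists_eq_pow_mul_and_not_dvd hn0 p hp.ne_one
  have ha : a ≤ j := by
    by_contra hcon
    exact h ((pow_dvd_pow p (by omega)).trans (e ▸ dvd_mul_right _ _))
  have hc : Nat.Coprime n' (p ^ k) := ((Nat.Prime.coprime_iff_not_dvd hp).2 hn').symm.pow_right k
  have h1 : n' ∣ m := hc.dvd_of_dvd_mul_left ((e ▸ dvd_mul_left n' (p ^ a)).trans hn)
  rw [e]
  exact mul_dvd_mul (pow_dvd_pow p ha) h1

theorem dvd_strip {n p k m : ℕ} (hp : p.Prime) (hn : n ∣ p ^ k * m) (h : ¬ p ∣ n) : n ∣ m := by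
  have h1 := dvd_step (j := 0) hp hn (by rwa [zero_add, pow_one])
  rwa [pow_zero, one_mul] at h1

variable {G : Type u} [Group G]

theorem cent_le_pow (g : G) (k : ℕ) : centralizer ({g} : Set G) ≤ centralizer ({g ^ k} : Set G) := by
  intro h hh
  rw [mem_centralizer_singleton_iff] at hh ⊢
  exact (show Commute h g from hh).pow_right k

theorem exists_pow_order [Finite G] {g : G} {q : ℕ} (hq : q ∣ orderOf g) : ∃ k : ℕ, orderOf (g ^ k) = q :=
  ⟨orderOf g / q, orderOf_pow_orderOf_div (orderOf_pos g).ne' hq⟩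

variable [Finite G]

theorem card_cent_dvd_pow (g : G) (k : ℕ) :
    Nat.card ↥(centralizer ({g} : Set G)) ∣ Nat.card ↥(centralizer ({g ^ k} : Set G)) :=
  Subgroup.card_dvd_of_le (cent_le_pow g k)

/-- every Sylow subgroup contains a central element of the given type -/
theorem exists_in_sylow {p n : ℕ} [Fact p.Prime] (hG : ¬ p ^ (n + 1) ∣ Nat.card G) {T : G → Prop}
    (hT : ∀ w c, T w → T (c * w * c⁻¹)) {w : G} (hw : T w) (hwo : orderOf w = p)
    (hwc : p ^ n ∣ Nat.card ↥(centralizer ({w} : Set G))) (P : Sylow p G) :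
    ∃ w' : G, T w' ∧ w' ∈ P ∧ ∀ u ∈ P, u * w' = w' * u := by
  have hp : p.Prime := Fact.out
  -- a Sylow subgroup of `C(w)` is one of `G`
  obtain ⟨Q₀, hQ₀⟩ := Sylow.exists_subgroup_card_pow_prime p hwc
  let Q : Subgroup G := Q₀.map (centralizer ({w} : Set G)).subtype
  have hQc : Nat.card Q = p ^ n := by
    rw [Subgroup.card_map_of_injective (subtype_injective _), hQ₀]
  have hQp : IsPGroup p Q := IsPGroup.of_card hQc
  obtain ⟨Q', hQ'⟩ := hQp.exists_le_sylow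
  have hQ'c : Nat.card Q' = p ^ n := by
    obtain ⟨k, hk⟩ := Q'.isPGroup'.exists_card_eq
    have h1 : k ≤ n := by
      by_contra hcon
      exact hG ((pow_dvd_pow p (by omega : n + 1 ≤ k)).trans (hk ▸ card_subgroup_dvd_card (Q' : Subgroup G)))
    have h2 : p ^ n ∣ p ^ k := by
      rw [← hQc, ← hk]
      exact card_dvd_of_le hQ'
    have h3 := (Nat.pow_dvd_pow_iff_le_right hp.one_lt).1 h2
    rw [hk, le_antisymm h1 h3]
  have hQQ : Q = Q' := Subgroup.eq_of_le_of_card_ge hQ' (by rw [hQc, hQ'c])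
  have hcen : ∀ u ∈ Q', u * w = w * u := by
    intro u hu
    have hu' : u ∈ Q := by rw [hQQ]; exact hu
    obtain ⟨v, -, hv⟩ := hu'
    rw [← hv]
    exact mem_centralizer_singleton_iff.1 v.2
  have hwQ : w ∈ Q' := by
    have h1 : IsPGroup p ((zpowers w ⊔ (Q' : Subgroup G) : Subgroup G)) := by
      refine IsPGroup.to_sup_of_normal_right' (IsPGroup.of_card (n := 1) (by rw [Nat.card_zpowers, hwo, pow_one]))
        Q'.isPGroup' ?_
      rw [zpowers_le]
      rw [mem_normalizer_iff]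
      intro u
      constructor
      · intro hu
        have := hcen u hu
        have e : w * u * w⁻¹ = u := by rw [← this]; group
        rwa [e]
      · intro hu
        have := hcen _ hu
        have e : w * u * w⁻¹ = u := by
          have h2 : w * (w * u * w⁻¹) * w⁻¹ = w * u * w⁻¹ := by rw [← this]; group
          have h3 := mul_right_cancel h2
          exact mul_left_cancel h3
        rwa [e] at hu
    have h2 := Q'.is_maximal' h1 le_sup_right
    have h3 : w ∈ zpowers w ⊔ (Q' : Subgroup G) := mem_sup_left (mem_zpowers w)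
    rw [h2] at h3
    exact h3
  obtain ⟨c, hc⟩ := MulAction.exists_smul_eq G Q' P
  refine ⟨c * w * c⁻¹, hT w c hw, ?_, ?_⟩
  · rw [← hc]
    exact ⟨w, hwQ, rfl⟩
  · intro u hu
    rw [← hc] at hu
    obtain ⟨v, hv, rfl⟩ := hu
    have := hcen v hv
    change c * v * c⁻¹ * (c * w * c⁻¹) = c * w * c⁻¹ * (c * v * c⁻¹)
    calc c * v * c⁻¹ * (c * w * c⁻¹) = c * (v * w) * c⁻¹ := by group
      _ = c * (w * v) * c⁻¹ := by rw [this]
      _ = _ := by group

/-- **B7**, the element `x = g ^ k` of order 7 has odd centralizer. -/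
theorem odd_part (hG : ¬ 7 ^ 7 ∣ Nat.card G) {FB : ℕ → G → Prop}
    (H2 : ∀ x : G, orderOf x = 7 → ¬ 2 ∣ Nat.card ↥(centralizer ({x} : Set G)) →
      Nat.card ↥(centralizer ({x} : Set G)) ∣ 3 ^ 7 * 5 ^ 9 * 7 ^ 6)
    (H5 : ∀ N : Subgroup G, 5 ^ 3 ∣ Nat.card N → ∃ e ∈ N, orderOf e = 5 ∧ 2 ∣ Nat.card ↥(centralizer ({e} : Set G)))
    (H6 : ∀ e x : G, orderOf e = 5 → 2 ∣ Nat.card ↥(centralizer ({e} : Set G)) → orderOf x = 7 → x * e = e * x →
      FB 5 e ∨ 2 ∣ Nat.card ↥(centralizer ({x} : Set G)))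
    (hFB : ∀ w c, FB 7 w → FB 7 (c * w * c⁻¹))
    (H7 : ∃ w : G, FB 7 w ∧ orderOf w = 7 ∧ 7 ^ 6 ∣ Nat.card ↥(centralizer ({w} : Set G)))
    {g : G} {k : ℕ} (hx : orderOf (g ^ k) = 7) (h2 : ¬ 2 ∣ Nat.card ↥(centralizer ({g ^ k} : Set G)))
    (hn5 : ∀ w : G, FB 5 w → w * g ≠ g * w) (hn7 : ∀ w : G, FB 7 w → w * g ≠ g * w) :
    Nat.card ↥(centralizer ({g} : Set G)) ≤ 918922725 := by
  have hF7 : Fact (Nat.Prime 7) := ⟨by norm_num⟩
  have hd := card_cent_dvd_pow g k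
  have h3 := hd.trans (H2 _ hx h2)
  have h5 : ¬ 5 ^ (2 + 1) ∣ Nat.card ↥(centralizer ({g} : Set G)) := by
    intro h
    obtain ⟨e, he, heo, he2⟩ := H5 _ h
    have heg := mem_centralizer_singleton_iff.1 he
    have hex : g ^ k * e = e * g ^ k := (Commute.pow_right (show Commute e g from heg) k).symm
    rcases H6 e _ heo he2 hx hex with h4 | h4
    · exact hn5 e h4 heg
    · exact h2 h4
  have h6 : ¬ 7 ^ (5 + 1) ∣ Nat.card ↥(centralizer ({g} : Set G)) := by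
    intro h
    obtain ⟨Q₀, hQ₀⟩ := Sylow.exists_subgroup_card_pow_prime 7 h
    let Q : Subgroup G := Q₀.map (centralizer ({g} : Set G)).subtype
    have hQc : Nat.card Q = 7 ^ 6 := by
      rw [Subgroup.card_map_of_injective (subtype_injective _), hQ₀]
    have hQp : IsPGroup 7 Q := IsPGroup.of_card hQc
    obtain ⟨P, hP⟩ := hQp.exists_le_sylow
    have hPc : Nat.card P ≤ 7 ^ 6 := by
      obtain ⟨j, hj⟩ := P.isPGroup'.exists_card_eq
      rw [hj]
      apply Nat.pow_le_pow_right (by norm_num)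
      by_contra hcon
      exact hG ((pow_dvd_pow 7 (by omega : 7 ≤ j)).trans (hj ▸ card_subgroup_dvd_card (P : Subgroup G)))
    have hQP : Q = P := Subgroup.eq_of_le_of_card_ge hP (by rw [hQc]; exact hPc)
    obtain ⟨w, hw, hwo, hwc⟩ := H7
    obtain ⟨w', hw', hwP, -⟩ := exists_in_sylow (p := 7) (n := 6) hG hFB hw hwo hwc P
    have h8 : w' ∈ Q := by rw [hQP]; exact hwP
    obtain ⟨v, -, hv⟩ := h8
    refine hn7 w' hw' ?_
    rw [← hv]
    exact mem_centralizer_singleton_iff.1 v.2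
  have h7' : Nat.card ↥(centralizer ({g} : Set G)) ∣ 5 ^ 9 * (3 ^ 7 * 7 ^ 6) := h3.trans (dvd_of_eq (by ring))
  have h8 := dvd_step Nat.prime_five h7' h5
  have h9 : Nat.card ↥(centralizer ({g} : Set G)) ∣ 7 ^ 6 * (5 ^ 2 * 3 ^ 7) := h8.trans (dvd_of_eq (by ring))
  have h10 := dvd_step (by norm_num) h9 h6
  exact (Nat.le_of_dvd (by norm_num) h10).trans (by norm_num)

/-- **B7.** -/
theorem b_seven (hG : ¬ 7 ^ 7 ∣ Nat.card G) {FB : ℕ → G → Prop}
    (H1 : ∀ x : G, orderOf x = 7 → 2 ∣ Nat.card ↥(centralizer ({x} : Set G)) →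
      Nat.card ↥(centralizer ({x} : Set G)) = 7 * 4030387200 ∨ FB 7 x)
    (H2 : ∀ x : G, orderOf x = 7 → ¬ 2 ∣ Nat.card ↥(centralizer ({x} : Set G)) →
      Nat.card ↥(centralizer ({x} : Set G)) ∣ 3 ^ 7 * 5 ^ 9 * 7 ^ 6)
    (H5 : ∀ N : Subgroup G, 5 ^ 3 ∣ Nat.card N → ∃ e ∈ N, orderOf e = 5 ∧ 2 ∣ Nat.card ↥(centralizer ({e} : Set G)))
    (H6 : ∀ e x : G, orderOf e = 5 → 2 ∣ Nat.card ↥(centralizer ({e} : Set G)) → orderOf x = 7 → x * e = e * x →
      FB 5 e ∨ 2 ∣ Nat.card ↥(centralizer ({x} : Set G)))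
    (hFB : ∀ w c, FB 7 w → FB 7 (c * w * c⁻¹))
    (H7 : ∃ w : G, FB 7 w ∧ orderOf w = 7 ∧ 7 ^ 6 ∣ Nat.card ↥(centralizer ({w} : Set G)))
    {g : G} (h7 : 7 ∣ orderOf g) (hodd : ¬ 2 ∣ Nat.card ↥(centralizer ({g} : Set G)))
    (hn5 : ∀ w : G, FB 5 w → w * g ≠ g * w) (hn7 : ∀ w : G, FB 7 w → w * g ≠ g * w) :
    Nat.card ↥(centralizer ({g} : Set G)) ≤ 918922725 := by
  obtain ⟨k, hx⟩ := exists_pow_order h7
  have hd := card_cent_dvd_pow g k
  by_cases h2 : 2 ∣ Nat.card ↥(centralizer ({g ^ k} : Set G))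
  · rcases H1 _ hx h2 with h | h
    · rw [h] at hd
      have h3 : Nat.card ↥(centralizer ({g} : Set G)) ∣ 2 ^ 10 * 27551475 := hd.trans (by norm_num)
      have h4 := dvd_strip Nat.prime_two h3 hodd
      exact (Nat.le_of_dvd (by norm_num) h4).trans (by norm_num)
    · exact absurd ((Commute.refl g).pow_left k) (hn7 _ h)
  · exact odd_part hG H2 H5 H6 hFB H7 hx h2 hn5 hn7

end Cfsg.Agent.H745.TM
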