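import Cfsg.Agent.H745.TM.BSeven

/-!
# S4173, row M: centralizers inside `C(x)` with `C(x)/⟨x⟩` simple (helper745)

* `index_ge` : a proper subgroup of a finite simple group `Q` with `m! < |Q|` has index `≥ m + 1`;
* `cent_le` : `π : C(x) → Q` onto, `Q` simple nonabelian, `m! < |Q|`, `π g ≠ 1`: `(m + 1) |C(g) ∩ C(x)| ≤ |C(x)|`;
* `b_seven'` : box B7 with "`¬ Ev g`" instead of "`|C(g)|` odd".
-/

set_option autoImplicit false

namespace Cfsg.Agent.H745.TM

open Subgroup

universe u v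

/-- a proper subgroup of a finite simple group `Q` with `m! < |Q|` has index `≥ m + 1` -/
theorem index_ge {Q : Type v} [Group Q] [Finite Q] [IsSimpleGroup Q] {m : ℕ} (hm : m.factorial < Nat.card Q)
    {H : Subgroup Q} (hH : H ≠ ⊤) : m + 1 ≤ H.index := by
  have h1 : (MulAction.toPermHom Q (Q ⧸ H)).ker = ⊥ := by
    rw [← Subgroup.normalCore_eq_ker]
    rcases (inferInstance : H.normalCore.Normal).eq_bot_or_eq_top with h | h
    · exact h
    · exact absurd (top_le_iff.1 (h ▸ H.normalCore_le)) hH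
  have h2 : Function.Injective (MulAction.toPermHom Q (Q ⧸ H)) := (MonoidHom.ker_eq_bot_iff _).1 h1
  have h3 : Nat.card Q ≤ Nat.card (Equiv.Perm (Q ⧸ H)) := Nat.card_le_card_of_injective _ h2
  have h4 : Nat.card (Equiv.Perm (Q ⧸ H)) = H.index.factorial := by
    have := Fintype.ofFinite (Q ⧸ H)
    classical
    rw [Nat.card_eq_fintype_card, Fintype.card_perm, ← Nat.card_eq_fintype_card, ← Subgroup.index_eq_card]
  by_contra hcon
  have h5 : H.index.factorial ≤ m.factorial := Nat.factorial_le (by omega)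
  omega

variable {G : Type u} [Group G] [Finite G]

/-- the centralizer of an element of `C(x)` -/
theorem cent_le {Q : Type v} [Group Q] [Finite Q] [IsSimpleGroup Q] (hna : ∃ a b : Q, a * b ≠ b * a) {m : ℕ}
    (hm : m.factorial < Nat.card Q) {x : G} {π : ↥(centralizer ({x} : Set G)) →* Q} (hπ : Function.Surjective π)
    {g : ↥(centralizer ({x} : Set G))} (hg : π g ≠ 1) :
    (m + 1) * Nat.card ↥(centralizer ({(g : G)} : Set G) ⊓ centralizer ({x} : Set G)) ≤
      Nat.card ↥(centralizer ({x} : Set G)) := by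
  have h1 : centralizer ({π g} : Set Q) ≠ ⊤ := by
    intro h
    have h2 : π g ∈ center Q := by
      rw [mem_center_iff]
      intro q
      have : q ∈ centralizer ({π g} : Set Q) := by rw [h]; exact mem_top q
      exact mem_centralizer_singleton_iff.1 this
    rcases (inferInstance : (center Q).Normal).eq_bot_or_eq_top with h3 | h3
    · rw [h3] at h2
      exact hg (mem_bot.1 h2)
    · obtain ⟨a, b, hab⟩ := hna
      apply hab
      have h4 : b ∈ center Q := by rw [h3]; exact mem_top b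
      exact mem_center_iff.1 h4 a
  have h2 := index_ge hm h1
  let K : Subgroup ↥(centralizer ({x} : Set G)) := (centralizer ({π g} : Set Q)).comap π
  have hK : K.index = (centralizer ({π g} : Set Q)).index := Subgroup.index_comap_of_surjective _ hπ
  have hle : (centralizer ({(g : G)} : Set G) ⊓ centralizer ({x} : Set G)) ≤ K.map (centralizer ({x} : Set G)).subtype := by
    rintro u ⟨hu1, hu2⟩
    refine ⟨⟨u, hu2⟩, ?_, rfl⟩
    change π ⟨u, hu2⟩ ∈ centralizer ({π g} : Set Q)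
    rw [mem_centralizer_singleton_iff, ← map_mul, ← map_mul]
    congr 1
    exact Subtype.ext (mem_centralizer_singleton_iff.1 hu1)
  have h3 : Nat.card ↥(centralizer ({(g : G)} : Set G) ⊓ centralizer ({x} : Set G)) ≤ Nat.card K := by
    refine (Nat.card_le_card_of_injective _ (Subgroup.inclusion_injective hle)).trans ?_
    rw [Subgroup.card_map_of_injective (subtype_injective _)]
  calc (m + 1) * Nat.card ↥(centralizer ({(g : G)} : Set G) ⊓ centralizer ({x} : Set G))
      ≤ K.index * Nat.card K := Nat.mul_le_mul (by rw [hK]; exact h2) h3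
    _ = Nat.card ↥(centralizer ({x} : Set G)) := K.index_mul_card

/-- the same, if `x` is a power of `g` -/
theorem cent_le_of_pow {Q : Type v} [Group Q] [Finite Q] [IsSimpleGroup Q] (hna : ∃ a b : Q, a * b ≠ b * a) {m : ℕ}
    (hm : m.factorial < Nat.card Q) {g : G} {k : ℕ} {π : ↥(centralizer ({g ^ k} : Set G)) →* Q}
    (hπ : Function.Surjective π) (hker : ∀ u, π u = 1 → (u : G) ∈ zpowers (g ^ k)) (hg : g ∉ zpowers (g ^ k)) :
    (m + 1) * Nat.card ↥(centralizer ({g} : Set G)) ≤ Nat.card ↥(centralizer ({g ^ k} : Set G)) := by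
  have hgx : g ∈ centralizer ({g ^ k} : Set G) :=
    mem_centralizer_singleton_iff.2 ((Commute.refl g).pow_right k)
  have h1 := cent_le hna hm hπ (g := ⟨g, hgx⟩) (fun h => hg (hker _ h))
  rwa [inf_eq_left.2 (cent_le_pow g k)] at h1

/-- **B7 with `¬ Ev g`.** -/
theorem b_seven' (hG : ¬ 7 ^ 7 ∣ Nat.card G) {FB : ℕ → G → Prop} {Ev : G → Prop} {B : ℕ} (hB : 918922725 ≤ B)
    (hEv : ∀ x : G, orderOf x = 7 → 2 ∣ Nat.card ↥(centralizer ({x} : Set G)) → Ev x)
    (hEvp : ∀ x y : G, Ev x → y ∈ zpowers x → Ev y)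
    (H1 : ∀ (g : G) (k : ℕ), orderOf (g ^ k) = 7 → Ev (g ^ k) → g ∉ zpowers (g ^ k) →
      Nat.card ↥(centralizer ({g} : Set G)) ≤ B ∨ FB 7 (g ^ k))
    (H2 : ∀ x : G, orderOf x = 7 → ¬ 2 ∣ Nat.card ↥(centralizer ({x} : Set G)) →
      Nat.card ↥(centralizer ({x} : Set G)) ∣ 3 ^ 7 * 5 ^ 9 * 7 ^ 6)
    (H5 : ∀ N : Subgroup G, 5 ^ 3 ∣ Nat.card N → ∃ e ∈ N, orderOf e = 5 ∧ 2 ∣ Nat.card ↥(centralizer ({e} : Set G)))
    (H6 : ∀ e x : G, orderOf e = 5 → 2 ∣ Nat.card ↥(centralizer ({e} : Set G)) → orderOf x = 7 → x * e = e * x →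
      FB 5 e ∨ 2 ∣ Nat.card ↥(centralizer ({x} : Set G)))
    (hFB : ∀ w c, FB 7 w → FB 7 (c * w * c⁻¹))
    (H7 : ∃ w : G, FB 7 w ∧ orderOf w = 7 ∧ 7 ^ 6 ∣ Nat.card ↥(centralizer ({w} : Set G)))
    {g : G} (h7 : 7 ∣ orderOf g) (hne : ¬ Ev g)
    (hn5 : ∀ w : G, FB 5 w → w * g ≠ g * w) (hn7 : ∀ w : G, FB 7 w → w * g ≠ g * w) :
    Nat.card ↥(centralizer ({g} : Set G)) ≤ B := by
  obtain ⟨k, hx⟩ := exists_pow_order h7
  by_cases he : Ev (g ^ k)
  · have hg : g ∉ zpowers (g ^ k) := fun h => hne (hEvp _ _ he h)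
    rcases H1 g k hx he hg with h | h
    · exact h
    · exact absurd ((Commute.refl g).pow_left k) (hn7 _ h)
  · have h2 : ¬ 2 ∣ Nat.card ↥(centralizer ({g ^ k} : Set G)) := fun h => he (hEv _ hx h)
    exact (odd_part hG H2 H5 H6 hFB H7 hx h2 hn5 hn7).trans hB

end Cfsg.Agent.H745.TM
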